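import Groth.Agent.Lib.LM28.Euler
import Groth.Agent.Lib.Hilb20.Poly
import Groth.Agent.Lib.GlobalConst.Scheme
import Groth.Agent.Lib.Cohom.Affine
import Groth.Agent.Lib.Euler.TensorSupport

/-!
Hilbert polynomials of direct images along closed immersions, and of finite subschemes.
-/

set_option autoImplicit false
set_option linter.style.haveILetI false
set_option backward.isDefEq.respectTransparency false

universe u

open CategoryTheory CategoryTheory.Limits AlgebraicGeometry TopologicalSpace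
open GrothLib.Euler (tF)
open GrothLib.Snapper (invPows phi)

noncomputable section

namespace GrothLib.NonPure12

variable (K : Type u) [Field K]

theorem euler_finite {Z : Scheme.{u}} [Z.Over (Spec (CommRingCat.of K))] {d : ℕ}
    (hZ : Mor2.IsFinLocFreeOfDeg d (Z ↘ Spec (CommRingCat.of K))) :
    Curv2.euler K Z (Coh.structureModule Z) = d := by
  obtain ⟨⟨hfin, hflat, -⟩, hdeg⟩ := hZ
  haveI := hfin
  haveI := hflat
  haveI : IsAffine Z := isAffine_of_isAffineHom (Z ↘ Spec (CommRingCat.of K))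
  haveI := Cohom.isQuasicoherent_structureModule Z
  letI := GlobalConst.algΓ K (X := Z)
  have hfac : Z ↘ Spec (CommRingCat.of K) =
      Z.isoSpec.hom ≫ Spec.map (CommRingCat.ofHom (algebraMap K Γ(Z, ⊤))) := by
    show _ = Z.isoSpec.hom ≫ Spec.map ((Scheme.ΓSpecIso (CommRingCat.of K)).inv ≫ (Z ↘ Spec (CommRingCat.of K)).appTop)
    rw [Spec.map_comp, Scheme.isoSpec_hom_naturality_assoc]
    simp [Scheme.isoSpec_Spec]
  haveI : Module.Finite K Γ(Z, ⊤) := GlobalConst.finite_algΓ K
  haveI : Flat (Spec.map (CommRingCat.ofHom (algebraMap K Γ(Z, ⊤)))) := by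
    rw [HasRingHomProperty.Spec_iff (P := @Flat)]
    exact RingHom.flat_algebraMap_iff.2 inferInstance
  haveI : IsFinite (Spec.map (CommRingCat.ofHom (algebraMap K Γ(Z, ⊤)))) :=
    (IsFinite.SpecMap_iff _).2 (RingHom.finite_algebraMap.2 inferInstance)
  have hd : Module.finrank K Γ(Z, ⊤) = d := by
    have h := hdeg (IsLocalRing.closedPoint K)
    rw [hfac, Scheme.Hom.finrank_comp_left_of_isIso, Scheme.Hom.finrank_SpecMap_algebraMap,
      Module.rankAtStalk_eq_finrank_of_free] at h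
    exact h
  rw [Curv2.euler, finsum_eq_single _ 0 (fun n hn => ?_)]
  · rw [pow_zero, one_mul, (GlobalConst.h0Equiv K).finrank_eq, hd]
  · obtain ⟨m, rfl⟩ := Nat.exists_eq_succ_of_ne_zero hn
    haveI := Cohom.subsingleton_HH_of_isAffine (Coh.structureModule Z) (m + 1) m.succ_pos
    rw [Module.finrank_zero_of_subsingleton, Nat.cast_zero, mul_zero]

theorem euler_finite_invertible {Z : Scheme.{u}} [Z.Over (Spec (CommRingCat.of K))] {d : ℕ}
    (hZ : Mor2.IsFinLocFreeOfDeg d (Z ↘ Spec (CommRingCat.of K))) {E : Z.Modules} (hE : PicF.IsInvertible E) :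
    Curv2.euler K Z E = d := by
  obtain ⟨⟨hfin, -, -⟩, -⟩ := id hZ
  haveI := hfin
  haveI : IsProper (Z ↘ Spec (CommRingCat.of K)) := inferInstance
  haveI : Finite Z := IsFinite.finite_preimage_singleton (Z ↘ Spec (CommRingCat.of K)) (IsLocalRing.closedPoint K)
    |>.subset (fun z _ => Subsingleton.elim (α := ↥(Spec (CommRingCat.of K))) _ _) |> Set.finite_univ_iff.1
  haveI : JacobsonSpace Z := LocallyOfFiniteType.jacobsonSpace (Z ↘ Spec (CommRingCat.of K))
  haveI : DiscreteTopology Z := inferInstance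
  have h := Euler.euler_tF_of_finite_support (k := K) (M := Coh.structureModule Z) (E := E)
    (Euler.isFinLocFreeOfRank_one' hE) (HomSh.isCoh_structureModule Z) (Set.toFinite _)
    (fun x _ => isClosed_singleton)
  rw [Nat.cast_one, one_mul, euler_finite K hZ] at h
  rw [← h]
  exact Euler.euler_of_iso K ((Euler.tFUnitIso E).symm ≪≫
    ((OX.tensorBraiding (X := Z)).app (Coh.structureModule Z)).app E)

variable {X : Scheme.{u}} [X.Over (Spec (CommRingCat.of K))] [IsProper (X ↘ Spec (CommRingCat.of K))]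

/-- The twisted Euler characteristics of the direct image of a coherent sheaf. -/
theorem phi_push_coh {Y : Scheme.{u}} [Y.Over (Spec (CommRingCat.of K))] (i : Y ⟶ X) [IsClosedImmersion i]
    (hi : i ≫ (X ↘ Spec (CommRingCat.of K)) = Y ↘ Spec (CommRingCat.of K))
    {L : X.Modules} (hL : PicF.IsInvertible L) {A : Y.Modules} (hA : Coh.IsCoh A) (n : Fin 1 → ℕ) :
    phi K 1 (fun _ => L) ((Coh.push i).obj A) n =
      phi K 1 (fun _ => (Scheme.Modules.pullback i).obj L) A n := by
  obtain ⟨e⟩ := Snapper.nonempty_pullback_invPows i 1 (fun _ => L) (fun _ => hL) n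
  have hN := Snapper.isInvertible_invPows 1 (fun _ => L) (fun _ => hL) n
  rw [phi, LM28.euler_tF_push K i hi (Euler.isFinLocFree_of_isInvertible hN) hA, phi]
  exact congrArg _ (Euler.euler_of_iso K (((DCoh.tensorBi (X := Y)).flip.mapIso e).app A))

/-- The Hilbert polynomial of a finite subscheme. -/
theorem isHilbPoly_push_finite {Z : Scheme.{u}} [Z.Over (Spec (CommRingCat.of K))] (i : Z ⟶ X) [IsClosedImmersion i]
    (hi : i ≫ (X ↘ Spec (CommRingCat.of K)) = Z ↘ Spec (CommRingCat.of K))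
    {d : ℕ} (hZ : Mor2.IsFinLocFreeOfDeg d (Z ↘ Spec (CommRingCat.of K))) {L : X.Modules} (hL : PicF.IsInvertible L) :
    ShStab.IsHilbPoly K X L ((Coh.push i).obj (Coh.structureModule Z)) (Polynomial.C (d : ℚ)) := fun m => by
  rw [Hilb20.euler_twist, Snapper.phi_push K i hi (fun _ => hL), Polynomial.eval_C,
    euler_finite_invertible K hZ (Snapper.isInvertible_invPows 1 _ (fun _ => RelProjK.isInvertible_pullback i hL) _),
    Int.cast_natCast]

theorem isHilbPoly_push_iff {Y : Scheme.{u}} [Y.Over (Spec (CommRingCat.of K))] (i : Y ⟶ X) [IsClosedImmersion i]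
    (hi : i ≫ (X ↘ Spec (CommRingCat.of K)) = Y ↘ Spec (CommRingCat.of K))
    {L : X.Modules} (hL : PicF.IsInvertible L) {A : Y.Modules} (hA : Coh.IsCoh A) (P : Polynomial ℚ) :
    ShStab.IsHilbPoly K X L ((Coh.push i).obj A) P ↔
      ShStab.IsHilbPoly K Y ((Scheme.Modules.pullback i).obj L) A P := by
  refine forall_congr' fun m => ?_
  rw [Hilb20.euler_twist, phi_push_coh K i hi hL hA, ← Hilb20.euler_twist]

theorem isHilbPoly_sub {L : X.Modules} (hL : PicF.IsInvertible L) {S : ShortComplex X.Modules}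
    (hS : S.ShortExact) (h₁ : Coh.IsCoh S.X₁) (h₂ : Coh.IsCoh S.X₂) (h₃ : Coh.IsCoh S.X₃) {P Q : Polynomial ℚ}
    (hQ : ShStab.IsHilbPoly K X L S.X₂ P) (hP : ShStab.IsHilbPoly K X L S.X₃ Q) :
    ShStab.IsHilbPoly K X L S.X₁ (P - Q) := fun m => by
  have h := congrFun (Snapper.phi_additive K (fun _ => hL) hS h₁ h₂ h₃) (fun _ : Fin 1 => m)
  rw [Pi.add_apply, ← Hilb20.euler_twist, ← Hilb20.euler_twist, ← Hilb20.euler_twist] at h
  rw [Polynomial.eval_sub, ← hQ m, ← hP m]
  linarith

theorem isHilbPoly_quot_of_sub {L : X.Modules} (hL : PicF.IsInvertible L) {S : ShortComplex X.Modules}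
    (hS : S.ShortExact) (h₁ : Coh.IsCoh S.X₁) (h₂ : Coh.IsCoh S.X₂) (h₃ : Coh.IsCoh S.X₃) {P Q : Polynomial ℚ}
    (hQ : ShStab.IsHilbPoly K X L S.X₂ P) (hP : ShStab.IsHilbPoly K X L S.X₁ Q) :
    ShStab.IsHilbPoly K X L S.X₃ (P - Q) := fun m => by
  have h := congrFun (Snapper.phi_additive K (fun _ => hL) hS h₁ h₂ h₃) (fun _ : Fin 1 => m)
  rw [Pi.add_apply, ← Hilb20.euler_twist, ← Hilb20.euler_twist, ← Hilb20.euler_twist] at h
  rw [Polynomial.eval_sub, ← hQ m, ← hP m]
  linarith

end GrothLib.NonPure12
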