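import Groth.Agent.Lib.NonPure12.Generic
import Groth.Agent.Lib.NonPure12.HilbDiff
import Groth.Agent.Lib.Hilb20.Slope
import Groth.Agent.Lib.Ref1.Extend
import Groth.Agent.Lib.LM28.HomIso
import Groth.Agent.Lib.Depth.HartogsUnit
import Groth.Agent.Lib.CodimExt27.Basic
import Groth.Agent.Lib.AlgSp.FiniteDiscrete
import Groth.Agent.Lib.HodgeIndex.IdealLe
import Groth.Agent.Lib.HodgeIndex.Walls
import Groth.Agent.Lib.HodgeIndex.NegCurves
import Groth.Agent.Lib.ExtHull28.Basic
import Groth.Agent.Lib.QCoh.Pieces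
import Groth.Agent.Lib.FEt21.PunctSections
import Groth.Agent.Lib.InvHartogs26.Basic

/-!
Torsion-free sheaves of trivial reflexive hull and finite colength.
-/

set_option autoImplicit false
set_option linter.style.haveILetI false
set_option linter.unusedSectionVars false
set_option backward.isDefEq.respectTransparency false

universe u

open CategoryTheory CategoryTheory.Limits AlgebraicGeometry TopologicalSpace
open GrothLib.QCoh (stalkLin)
open GrothLib.LocFreeHom (iHom T)
open GrothLib.Snapper (DimLT)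

noncomputable section

namespace GrothLib.NonPure12

attribute [local instance] LocFreeHom.hasSheafHom
attribute [local irreducible] Curv2.euler

variable {X : Scheme.{u}}

/-- Isomorphic modules have isomorphic sheaf Homs. -/
def iHomIso {A B : X.Modules} (e : A ≅ B) [DCoh.HasSheafHom A] [DCoh.HasSheafHom B] :
    DCoh.sheafHom A ≅ DCoh.sheafHom B :=
  Adjunction.rightAdjointUniq (DCoh.sheafHomAdj A)
    ((DCoh.sheafHomAdj B).ofNatIsoLeft ((DCoh.tensorBi (X := X)).mapIso e.symm))

/-- The reflexive hull as iterated sheaf Homs. -/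
theorem nonempty_ddual_iso [IsLocallyNoetherian X] {F : X.Modules} (hF : Coh.IsCoh F) [DCoh.HasSheafHom F]
    [DCoh.HasSheafHom ((DCoh.sheafHom F).obj (Coh.structureModule X))] :
    Nonempty (RefHull.ddual F ≅ (DCoh.sheafHom ((DCoh.sheafHom F).obj (Coh.structureModule X))).obj
      (Coh.structureModule X)) := by
  have hO := HomSh.isCoh_structureModule X
  obtain ⟨e⟩ := LM28.nonempty_homSh_iso_coh F (Coh.structureModule X) hF hO
  have hD : Coh.IsCoh (RefHull.dual F) := HomSh.isCoh_dual (HomSh.hasRel_of_isCoh hF)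
  obtain ⟨e'⟩ := LM28.nonempty_homSh_iso_coh (RefHull.dual F) (Coh.structureModule X) hD hO
  exact ⟨e' ≪≫ (iHomIso e).app _⟩

theorem exists_idealMod_of_ddual [IsIntegral X] [IsLocallyNoetherian X] {F : X.Modules}
    (hF : Coh.IsCoh F) (hFt : TorSh.IsTorsionFree F) (e : RefHull.ddual F ≅ Coh.structureModule X) :
    ∃ Z : X.IdealSheafData, Nonempty (F ≅ ClSub.idealMod Z) := by
  haveI : ∀ x : X, Module.IsTorsionFree (X.presheaf.stalk x) (F.presheaf.stalk x) := hFt
  haveI : Mono (RefHull.bidualMap F) :=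
    (OX.mono_iff _).2 fun x => (ModuleCat.mono_iff_injective _).2
      (Ref1.stalkMap_bidual_injective (HomSh.hasRel_of_isCoh hF) x)
  obtain ⟨Z, e', -⟩ := ExtHull28.exists_iso_idealMod hF (RefHull.bidualMap F ≫ e.hom)
  exact ⟨Z, ⟨e'⟩⟩

theorem subset_support_quotMod (Z : X.IdealSheafData) :
    (Z.support : Set X) ⊆ CohB1.support (ClSub.quotMod Z) := fun x hx => by
  by_contra h
  refine HodgeIndex.not_surjective_idealModι Z hx fun v => ?_
  haveI : Subsingleton ((ClSub.quotMod Z).presheaf.stalk x) := QCoh.stalk_subsingleton_of_notMem h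
  have hS := ArSurf29.shortExact_ideal Z
  have he := (ShortComplex.ShortExact.moduleCat_exact_iff_function_exact _).1 ((OX.shortExact_iff _).1 hS x).exact
  exact (he v).1 (Subsingleton.elim (α := (ClSub.quotMod Z).presheaf.stalk x) _ _)

variable (K : Type u) [Field K] [X.Over (Spec (CommRingCat.of K))] [IsProper (X ↘ Spec (CommRingCat.of K))]

include K in
theorem finite_closed_of_dimLT_one (Z : X.IdealSheafData) (h : DimLT (CohB1.support (ClSub.quotMod Z)) 1) :
    (Z.support : Set X).Finite ∧ ∀ x ∈ (Z.support : Set X), IsClosed ({x} : Set X) := by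
  haveI := Euler.isNoetherian_of_proper (X := X) K
  have h1 : DimLT (Z.support : Set X) 1 := h.mono (subset_support_quotMod Z)
  have h0 : topologicalKrullDim (Z.support : Set X) ≤ 0 := by
    exact_mod_cast Snapper.dim_le_of_dimLT Z.support.isClosed h1
  have hp := fun x hx => Euler.isClosed_singleton_of_dim_le_zero Z.support.isClosed h0 (x := x) hx
  exact ⟨Euler.finite_of_closed_points Z.support.isClosed hp, hp⟩

/-- A subscheme with constant Hilbert polynomial is finite of that degree. -/
theorem isFinLocFreeOfDeg_of_hilb [IsIntegral X] {L : X.Modules} (hLa : CohB1.IsAmple L) (Z : X.IdealSheafData)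
    {d : ℕ} (h : ShStab.IsHilbPoly K X L (ClSub.quotMod Z) (Polynomial.C (d : ℚ))) :
    Mor2.IsFinLocFreeOfDeg d (Z.subschemeι ≫ (X ↘ Spec (CommRingCat.of K))) := by
  haveI := Euler.isNoetherian_of_proper (X := X) K
  have hQ : Coh.IsCoh (ClSub.quotMod Z) := QCoh.pushUnit_isCoh Z.subschemeι
  obtain ⟨D, hD, -⟩ := Dim.exists_nat_dim_open (K := K) (X ↘ Spec (CommRingCat.of K))
  have hdim : ∀ n, DimLT (CohB1.support (ClSub.quotMod Z)) (n + 1) →
      DimLT (CohB1.support (ClSub.quotMod Z)) 1 := by
    intro n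
    induction n with
    | zero => exact id
    | succ n ih =>
      intro hn
      refine ih (Hilb20.dimLT_of_alpha_eq_zero hLa hQ hn h ?_)
      rw [StabCat.alpha, Polynomial.coeff_C, if_neg n.succ_ne_zero, mul_zero]
  have hfin := (finite_closed_of_dimLT_one K Z (hdim D (Snapper.dimLT_of_dim_le
    (le_trans (Topology.IsInducing.topologicalKrullDim_le (f := Subtype.val) Topology.IsInducing.subtypeVal) hD.le)))).1
  letI : Z.subscheme.Over (Spec (CommRingCat.of K)) := ⟨Z.subschemeι ≫ (X ↘ Spec (CommRingCat.of K))⟩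
  haveI : IsProper (Z.subscheme ↘ Spec (CommRingCat.of K)) :=
    inferInstanceAs (IsProper (Z.subschemeι ≫ (X ↘ Spec (CommRingCat.of K))))
  haveI : Finite Z.subscheme := by
    refine Set.finite_univ_iff.1 (Set.Finite.of_finite_image ?_ Z.subschemeι.isClosedEmbedding.injective.injOn)
    rw [Set.image_univ, Z.range_subschemeι]
    exact hfin
  let g := Z.subscheme ↘ Spec (CommRingCat.of K)
  haveI : DiscreteTopology ↥(Spec (CommRingCat.of K)) :=
    inferInstanceAs (DiscreteTopology (PrimeSpectrum K))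
  haveI : LocallyQuasiFinite g := LocallyQuasiFinite.of_finite_preimage_singleton g fun _ => Set.toFinite _
  haveI : IsFinite g := AlgSp.isFinite_of_finite_discrete g
  haveI : Flat g := inferInstance
  haveI : LocallyOfFinitePresentation g := LocProp.locallyOfFinitePresentation_of_isLocallyNoetherian g
  have hdeg : Mor2.IsFinLocFreeOfDeg (g.finrank (IsLocalRing.closedPoint K)) g :=
    ⟨⟨inferInstance, inferInstance, inferInstance⟩, fun y => by
      rw [Subsingleton.elim (α := PrimeSpectrum K) y (IsLocalRing.closedPoint K)]⟩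
  have h' := isHilbPoly_push_finite K Z.subschemeι rfl hdeg hLa.1
  have hd : (g.finrank (IsLocalRing.closedPoint K) : ℚ) = (d : ℚ) :=
    Polynomial.C_inj.1 (Hilb20.isHilbPoly_unique h' h)
  rw [Nat.cast_inj.1 hd] at hdeg
  exact hdeg

variable [IsIntegral X] [Smooth (X ↘ Spec (CommRingCat.of K))]
  [GeometricallyIrreducible (X ↘ Spec (CommRingCat.of K))]

theorem exists_scalar_structure (h : Coh.structureModule X ⟶ Coh.structureModule X) :
    ∃ c : K, h = c • 𝟙 _ := by
  haveI := Euler.isNoetherian_of_proper (X := X) K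
  have htop : (⊤ : X.IdealSheafData) ≠ ⊥ := fun e => by
    have := congrArg (fun I : X.IdealSheafData => (I.support : Set X)) e
    simp at this
    exact Set.empty_ne_univ this
  haveI := HodgeIndex.isIso_idealModι_top (X := X)
  let ι := asIso (ClSub.idealModι (⊤ : X.IdealSheafData))
  obtain ⟨c, hc⟩ := exists_scalar_idealMod K ⊤ htop (ι.hom ≫ h ≫ ι.inv)
  refine ⟨c, ?_⟩
  have : ι.hom ≫ h ≫ ι.inv = c • 𝟙 _ := by
    refine sub_eq_zero.1 (eq_zero_of_generic _ fun v => ?_)
    have h1 := QCoh.stalkLin_add (ι.hom ≫ h ≫ ι.inv - c • 𝟙 _) (c • 𝟙 _) (genericPoint X) v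
    rw [sub_add_cancel, TFSimple15.stalkLin_smul, QCoh.stalkLin_id, hc] at h1
    exact right_eq_add.1 h1
  calc h = ι.inv ≫ (ι.hom ≫ h ≫ ι.inv) ≫ ι.hom := by simp
    _ = _ := by rw [this, Linear.smul_comp, Category.id_comp, Linear.comp_smul, Iso.inv_hom_id]

include K in
theorem le_of_iso_idealMod (hdim : 2 ≤ topologicalKrullDim X) {Z Z' : X.IdealSheafData}
    (hZ : (Z.support : Set X).Finite) (hZc : ∀ x ∈ (Z.support : Set X), IsClosed ({x} : Set X))
    (e : ClSub.idealMod Z ≅ ClSub.idealMod Z') : Z ≤ Z' := by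
  haveI := Euler.isNoetherian_of_proper (X := X) K
  haveI : Mono (ClSub.idealModι Z') := inferInstanceAs (Mono (kernel.ι _))
  let U : X.Opens := ⟨(Z.support : Set X)ᶜ, Z.support.isClosed.isOpen_compl⟩
  obtain ⟨D, hD, -⟩ := Dim.exists_nat_dim_open (K := K) (X ↘ Spec (CommRingCat.of K))
  have hN := Hilb20.isNormalScheme_of_smooth (X := X) K
  have hcomp : ∀ C : Set ↥X, C ∈ irreducibleComponents ↥X → topologicalKrullDim ↥C = (D : WithBot ℕ∞) := by
    intro C hC
    rw [irreducibleComponents_eq_singleton, Set.mem_singleton_iff] at hC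
    subst hC
    rw [IsHomeomorph.topologicalKrullDim_eq _ (Homeomorph.Set.univ X).isHomeomorph, hD]
  have hU : ∀ x : X, x ∉ U → (2 : ℕ∞) ≤ LocCoh.depth (X.presheaf.stalk x) (X.presheaf.stalk x) := by
    intro x hx
    have hxc := hZc x (not_not.1 hx)
    have h := CodimExt27.ptDim_add_dim_stalk (X ↘ Spec (CommRingCat.of K)) hcomp x
    rw [AffDom.ptDim_closedPoint hxc, zero_add] at h
    haveI := (hN x).1
    haveI := (hN x).2
    exact GrothLib.FEt21.two_le_depth_of_normal _ (by rw [h, ← hD]; exact hdim)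
  haveI : IsIso ((Scheme.Modules.restrictFunctor U.ι).map (ClSub.idealModι Z)) := by
    haveI := HodgeIndex.isoOn_of_bijective (ClSub.idealModι Z) U
      (fun x hx => HodgeIndex.stalk_bijective_idealModι Z hx)
    exact (NatIso.isIso_map_iff (Scheme.Modules.restrictFunctorIsoPullback U.ι) _).2 ‹_›
  have hOq := HomSh.isCoh_structureModule X
  haveI := hOq.1
  haveI := hOq.2
  have hdepth : ∀ x : X, x ∉ U →
      (2 : ℕ∞) ≤ LocCoh.depth (X.presheaf.stalk x) ((Coh.structureModule X).presheaf.stalk x) :=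
    fun x hx => (InvHartogs26.depth_eq Euler.isInvertible_structure x).ge.trans' (hU x hx)
  let g := e.hom ≫ ClSub.idealModι Z'
  obtain ⟨h, hh⟩ := (Depth.restrict_map_bijective (E := Coh.structureModule X) (F := Coh.structureModule X) hdepth).2
    (inv ((Scheme.Modules.restrictFunctor U.ι).map (ClSub.idealModι Z)) ≫ (Scheme.Modules.restrictFunctor U.ι).map g)
  have hg : ClSub.idealModι Z ≫ h = g :=
    (Depth.restrict_map_bijective (E := Coh.structureModule X) (F := ClSub.idealMod Z) hdepth).1 (by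
      show (Scheme.Modules.restrictFunctor U.ι).map _ = (Scheme.Modules.restrictFunctor U.ι).map g
      rw [Functor.map_comp, show (Scheme.Modules.restrictFunctor U.ι).map h = _ from hh, IsIso.hom_inv_id_assoc])
  obtain ⟨c, rfl⟩ := exists_scalar_structure K h
  rw [Linear.comp_smul, Category.comp_id] at hg
  by_cases hc : c = 0
  · subst hc
    rw [zero_smul] at hg
    have h0 : e.hom = 0 := by rw [← cancel_mono (ClSub.idealModι Z'), zero_comp]; exact hg.symm
    have hzero : IsZero (ClSub.idealMod Z) := by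
      rw [IsZero.iff_id_eq_zero, ← e.hom_inv_id, h0, zero_comp]
    have hι : ClSub.idealModι Z = 0 := hzero.eq_zero_of_src _
    exact ExtHull28.le_of_fac 0 (by rw [zero_comp, hι])
  · refine ExtHull28.le_of_fac (c⁻¹ • e.hom) ?_
    rw [Linear.smul_comp]
    show c⁻¹ • g = _
    rw [← hg, smul_smul, inv_mul_cancel₀ hc, one_smul]

end GrothLib.NonPure12
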