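import Groth.Agent.Lib.NonPure12.PicInt

/-!
Points and rank one sheaves in dimensions zero and one.
-/

set_option autoImplicit false
set_option linter.style.haveILetI false
set_option linter.unusedSectionVars false
set_option backward.isDefEq.respectTransparency false

universe u

open CategoryTheory CategoryTheory.Limits AlgebraicGeometry TopologicalSpace Polynomial
open GrothLib.Ref1 (Gen)

noncomputable section

namespace GrothLib.NonPure12

/-- An isomorphism of the restrictions to the whole space. -/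
def isoOfTop {Y : Scheme.{u}} {M N : Y.Modules}
    (e : (Scheme.Modules.pullback (⊤ : Y.Opens).ι).obj M ≅ (Scheme.Modules.pullback (⊤ : Y.Opens).ι).obj N) :
    M ≅ N :=
  have h : Y.topIso.inv ≫ (⊤ : Y.Opens).ι = 𝟙 Y := Y.topIso.inv_hom_id
  let r : ∀ F : Y.Modules, F ≅ (Scheme.Modules.pullback Y.topIso.inv).obj ((Scheme.Modules.pullback (⊤ : Y.Opens).ι).obj F) :=
    fun F => ((Scheme.Modules.pullbackId Y).app F).symm ≪≫ (Scheme.Modules.pullbackCongr h.symm).app F ≪≫
      ((Scheme.Modules.pullbackComp Y.topIso.inv (⊤ : Y.Opens).ι).app F).symm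
  r M ≪≫ (Scheme.Modules.pullback Y.topIso.inv).mapIso e ≪≫ (r N).symm

theorem exists_closed_point (Y : Scheme.{u}) [Nonempty Y] [CompactSpace Y] :
    ∃ p : Y, p ∈ Set.univ ∧ IsClosed ({p} : Set Y) := by
  obtain ⟨p, hp, hc⟩ := IsClosed.exists_closed_singleton (isClosed_univ (X := Y)) Set.univ_nonempty
  exact ⟨p, hp, hc⟩

variable (K : Type u) [Field K] {Y : Scheme.{u}} [Y.Over (Spec (CommRingCat.of K))]
  [IsProper (Y ↘ Spec (CommRingCat.of K))] [IsIntegral Y]

include K in
theorem ptIdeal_ne_bot (hdim : topologicalKrullDim Y = ((1 : ℕ) : WithBot ℕ∞)) {p : Y} (hp : IsClosed ({p} : Set Y)) :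
    Scheme.IdealSheafData.vanishingIdeal (X := Y) ⟨{p}, hp⟩ ≠ ⊥ := fun h => by
  have h1 := congrArg (fun I : Y.IdealSheafData => (I.support : Set Y)) h
  simp only [Scheme.IdealSheafData.support_bot] at h1
  replace h1 : ({p} : Set Y) = Set.univ := h1
  haveI : Subsingleton Y := ⟨fun a b => by
    have ha : a ∈ ({p} : Set Y) := (Set.ext_iff.1 h1 a).2 trivial
    have hb : b ∈ ({p} : Set Y) := (Set.ext_iff.1 h1 b).2 trivial
    exact ha.trans hb.symm⟩
  have h0 : topologicalKrullDim Y ≤ 0 := by
    haveI : Subsingleton (IrreducibleCloseds Y) := ⟨fun a b => IrreducibleCloseds.ext (by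
      obtain ⟨x, hx⟩ := a.isIrreducible.nonempty
      obtain ⟨y, hy⟩ := b.isIrreducible.nonempty
      ext z
      exact ⟨fun _ => Subsingleton.elim y z ▸ hy, fun _ => Subsingleton.elim x z ▸ hx⟩)⟩
    exact (Order.krullDim_nonpos_of_subsingleton)
  rw [hdim] at h0
  have : (1 : ℕ) ≤ 0 := by exact_mod_cast h0
  omega

theorem isHilbPoly_ptIdeal [IsAlgClosed K] [Smooth (Y ↘ Spec (CommRingCat.of K))] {L : Y.Modules}
    (hL : PicF.IsInvertible L) {p : Y} (hp : IsClosed ({p} : Set Y)) {P : ℚ[X]}
    (hP : ShStab.IsHilbPoly K Y L (Coh.structureModule Y) P) :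
    ShStab.IsHilbPoly K Y L (ClSub.idealMod (Scheme.IdealSheafData.vanishingIdeal (X := Y) ⟨{p}, hp⟩)) (P - C 1) := by
  haveI := Euler.isNoetherian_of_proper (X := Y) K
  let I := Scheme.IdealSheafData.vanishingIdeal (X := Y) ⟨{p}, hp⟩
  have hQ : Coh.IsCoh (ClSub.quotMod I) := QCoh.pushUnit_isCoh I.subschemeι
  have hsupp : CohB1.support (ClSub.quotMod I) ⊆ ({p} : Set Y) := Snapper.support_quotMod I
  have hfin := (Set.finite_singleton p).subset hsupp
  have hcl : ∀ y ∈ CohB1.support (ClSub.quotMod I), IsClosed ({y} : Set Y) :=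
    fun y hy => (Set.mem_singleton_iff.1 (hsupp hy)) ▸ hp
  have h2 : Curv2.euler K Y (ClSub.quotMod I) = 1 := by
    rw [Euler.euler_eq_of_finite_support K _ hfin hcl,
      CurveMult.finrank_H0_quotMod_rational K hp (Euler.exists_const_residue (Y ↘ Spec (CommRingCat.of K)) hp).2]
    rfl
  have hQP : ShStab.IsHilbPoly K Y L (ClSub.quotMod I) (C 1) := fun m => by
    have e : Curv2.euler K Y (ShStab.twist Y L (ClSub.quotMod I) m) = Curv2.euler K Y (ClSub.quotMod I) := by
      have h := Euler.euler_tF_of_finite_support (k := K) (E := CohB1.tensorPow L m) (M := ClSub.quotMod I)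
        (Euler.isFinLocFreeOfRank_one' (Ample.isInvertible_tensorPow hL m)) hQ hfin hcl
      rw [Nat.cast_one, one_mul] at h
      exact h
    rw [e, h2, eval_C, Int.cast_one]
  exact isHilbPoly_sub K hL (ArSurf29.shortExact_ideal I) (RegPow.isCoh_idealMod I)
    (HomSh.isCoh_structureModule Y) hQ hP hQP

include K in
theorem isInvertible_of_dim_one [Smooth (Y ↘ Spec (CommRingCat.of K))]
    (hdim : topologicalKrullDim Y = ((1 : ℕ) : WithBot ℕ∞)) {N : Y.Modules}
    (hNc : Coh.IsCoh N) (htf : TorSh.IsTorsionFree N) {e : N.presheaf.stalk (genericPoint Y)}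
    (he : Gen N (genericPoint Y) e) : PicF.IsInvertible N := by
  haveI := Euler.isNoetherian_of_proper (X := Y) K
  obtain ⟨hinv, hmono, hd⟩ := bidual_facts_general K hdim hNc htf he
  haveI := hmono
  haveI : Epi (RefHull.bidualMap N) := by
    have hz : IsZero (cokernel (RefHull.bidualMap N)) := by
      rw [IsZero.iff_id_eq_zero]
      refine Scheme.Modules.hom_ext _ _ fun U => AddCommGrpCat.ext fun s => ?_
      have hs : (show Γ(cokernel (RefHull.bidualMap N), U) from s) = 0 :=
        QCoh.section_eq_zero_of_germ _ _ fun x hx => @Subsingleton.elim _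
          (QCoh.stalk_subsingleton_of_notMem fun h => absurd (hd (RelSeries.singleton _ x) fun _ => h) (Nat.not_lt_zero _)) _ _
      exact hs
    exact Preadditive.epi_of_cokernel_zero (hz.eq_zero_of_tgt _)
  haveI := isIso_of_mono_of_epi (RefHull.bidualMap N)
  exact RelProjK.isInvertible_of_iso (asIso (RefHull.bidualMap N)) hinv

end GrothLib.NonPure12
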