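import Groth.Agent.Lib.TFSimple15.Main
import Groth.Agent.Lib.PointIdeal16.Main
import Groth.Agent.Lib.RegPow10.Main
import Groth.Agent.Lib.HodgeIndex.Walls
import Groth.Agent.Lib.Rigidity.SmoothGroup

/-!
Endomorphisms of the ideal sheaf of a proper closed subscheme of a smooth proper geometrically irreducible variety.
-/

set_option autoImplicit false
set_option linter.style.haveILetI false
set_option backward.isDefEq.respectTransparency false

universe u

open CategoryTheory CategoryTheory.Limits AlgebraicGeometry TopologicalSpace
open GrothLib.QCoh (stalkLin)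

noncomputable section

namespace GrothLib.NonPure12

variable {X : Scheme.{u}} [IsIntegral X]

theorem genericPoint_notMem (W : X.IdealSheafData) (hW : W ≠ ⊥) :
    genericPoint X ∉ (W.support : Set X) := fun h => by
  apply hW
  have hu : (W.support : Set X) = Set.univ := Set.eq_univ_of_forall fun x =>
    W.support.isClosed.closure_subset_iff.2 (Set.singleton_subset_iff.2 h)
      ((genericPoint_specializes x).mem_closure)
  have hs : W.support = ⊤ := Closeds.ext hu
  refine le_antisymm ?_ bot_le
  calc W ≤ Scheme.IdealSheafData.vanishingIdeal W.support :=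
        Scheme.IdealSheafData.le_support_iff_le_vanishingIdeal.1 le_rfl
    _ = ⊥ := by rw [hs, Scheme.IdealSheafData.vanishingIdeal_top, Scheme.nilradical_eq_bot]

theorem isTF1_idealMod [IsLocallyNoetherian X] (W : X.IdealSheafData) (hW : W ≠ ⊥) :
    TFOne.IsTF1 X (ClSub.idealMod W) := by
  have hfree : ∀ x : X, ∃ _ : Module.Free (X.presheaf.stalk x) ((Coh.structureModule X).presheaf.stalk x),
      Module.finrank (X.presheaf.stalk x) ((Coh.structureModule X).presheaf.stalk x) = 1 := fun x => by
    obtain ⟨D, e, hx, he⟩ := FinCov.exists_frame_nhd_of_rank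
      (Euler.isFinLocFreeOfRank_one' (Euler.isInvertible_structure (X := X))) x
    obtain ⟨b⟩ := Euler.stalk_basis_of_frame he hx
    exact ⟨Module.Free.of_basis b, by rw [Module.finrank_eq_card_basis b, Fintype.card_fin]⟩
  haveI : Mono (ClSub.idealModι W) := inferInstanceAs (Mono (kernel.ι _))
  refine ⟨RegPow.isCoh_idealMod W, fun x => ?_, fun x hx => ?_⟩
  · obtain ⟨_, -⟩ := hfree x
    exact Function.Injective.moduleIsTorsionFree (stalkLin (ClSub.idealModι W) x)
      (QCoh.stalkLin_injective _ x) (map_smul _)
  · have hx' : x = genericPoint X := by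
      have := (GrothLib.FinAff13.mem_genericPoints_iff.1 hx) (genericPoint X) (genericPoint_specializes x)
      exact this.symm
    obtain ⟨_, h1⟩ := hfree x
    subst hx'
    let e := LinearEquiv.ofBijective _ (HodgeIndex.stalk_bijective_idealModι W (genericPoint_notMem W hW))
    haveI : Module.Finite (X.presheaf.stalk (genericPoint X)) ((Coh.structureModule X).presheaf.stalk (genericPoint X)) :=
      Module.finite_of_finrank_eq_succ h1
    exact ⟨e ≪≫ₗ (Module.finBasisOfFinrankEq _ _ h1).equivFun ≪≫ₗ LinearEquiv.funUnique (Fin 1) _ _⟩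

variable (K : Type u) [Field K] [X.Over (Spec (CommRingCat.of K))]
  [Smooth (X ↘ Spec (CommRingCat.of K))] [IsProper (X ↘ Spec (CommRingCat.of K))]
  [GeometricallyIrreducible (X ↘ Spec (CommRingCat.of K))]

/-- Every endomorphism of a nonzero ideal sheaf is a scalar on the generic stalk. -/
theorem exists_scalar_idealMod (W : X.IdealSheafData) (hW : W ≠ ⊥)
    (φ : ClSub.idealMod W ⟶ ClSub.idealMod W) :
    ∃ c : K, ∀ v, stalkLin φ (genericPoint X) v = TFSimple15.cstAt K (genericPoint X) c • v := by
  haveI := Euler.isNoetherian_of_proper (X := X) K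
  haveI : GeometricallyReduced (X ↘ Spec (CommRingCat.of K)) := Rigidity.geometricallyReduced_of_smooth _
  haveI : GeometricallyIntegral (X ↘ Spec (CommRingCat.of K)) :=
    GeometricallyIntegral.of_geometricallyReduced_of_geometricallyIrreducible _
  refine TFSimple15.exists_scalar (k := K) ?_ (isTF1_idealMod W hW)
    (GrothLib.FinAff13.mem_genericPoints_iff.2 fun z hz => (hz.antisymm (genericPoint_specializes z)).eq) φ
  intro C hC
  have hCu : C = Set.univ := by
    have := irreducibleComponents_eq_singleton (X := (X : Type u))
    rw [this] at hC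
    exact hC
  subst hCu
  haveI : IsIso (VecSt.subschι X Set.univ (isClosed_of_mem_irreducibleComponents _ hC)) := by
    have : Scheme.IdealSheafData.vanishingIdeal (X := X) ⟨Set.univ, isClosed_of_mem_irreducibleComponents _ hC⟩ = ⊥ := by
      rw [← Scheme.nilradical_eq_bot (X := X), ← Scheme.IdealSheafData.vanishingIdeal_top]
      rfl
    show IsIso (Scheme.IdealSheafData.vanishingIdeal (X := X) ⟨Set.univ, _⟩).subschemeι
    rw [this]
    infer_instance
  exact (MorphismProperty.cancel_left_of_respectsIso @GeometricallyIntegral _ _).2 inferInstance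

end GrothLib.NonPure12
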