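import Groth.Agent.Lib.NonPure12.EndIdeal
import Groth.Agent.Lib.AsympCoh5.Rank
import Groth.Agent.Lib.Hilb20.Poly
import Groth.Agent.Lib.Dim.Scheme

/-!
Submodules of the structure sheaf of an integral scheme at the generic point.
-/

set_option autoImplicit false
set_option linter.style.haveILetI false
set_option backward.isDefEq.respectTransparency false

universe u

open CategoryTheory CategoryTheory.Limits AlgebraicGeometry TopologicalSpace
open GrothLib.QCoh (stalkLin)
open GrothLib.AsympCoh5 (GenDet)

noncomputable section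

namespace GrothLib.NonPure12

variable {X : Scheme.{u}} [IsIntegral X]

theorem genDet_of_mono {N : X.Modules} (ι : N ⟶ Coh.structureModule X) [Mono ι] : GenDet N := by
  intro V s h
  refine Cohom.app_injective_of_mono ι V ((AsympCoh5.genDet_of_locFree
    (Euler.isFinLocFreeOfRank_one' (Euler.isInvertible_structure (X := X))) V (ι.app V s) fun hη => ?_).trans
    (map_zero _).symm)
  rw [← QCoh.stalkLin_germ, h hη, map_zero]

theorem eq_zero_of_generic' {M N : X.Modules} (hN : GenDet N) (g : M ⟶ N)
    (h : ∀ v, stalkLin g (genericPoint X) v = 0) : g = 0 := by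
  refine VA.hom_ext_affine fun U m => ?_
  refine (hN _ _ fun hη => ?_).trans rfl
  rw [← QCoh.stalkLin_germ]
  exact h _

theorem eq_zero_of_generic {M : X.Modules} {Z : X.IdealSheafData} (g : M ⟶ ClSub.idealMod Z)
    (h : ∀ v, stalkLin g (genericPoint X) v = 0) : g = 0 :=
  haveI : Mono (ClSub.idealModι Z) := inferInstanceAs (Mono (kernel.ι _))
  eq_zero_of_generic' (genDet_of_mono (ClSub.idealModι Z)) g h

theorem mono_of_ne_zero [IsLocallyNoetherian X] {W Z : X.IdealSheafData} (hW : W ≠ ⊥)
    {f : ClSub.idealMod W ⟶ ClSub.idealMod Z} (hf : f ≠ 0) : Mono f := by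
  haveI : Mono (ClSub.idealModι W) := inferInstanceAs (Mono (kernel.ι _))
  refine AsympCoh5.mono_of_generic (genDet_of_mono (ClSub.idealModι W)) f
    ((injective_iff_map_eq_zero _).2 fun v hv => ?_)
  by_contra hne
  obtain ⟨e⟩ := (isTF1_idealMod W hW).2.2 (genericPoint X) (GrothLib.FinAff13.mem_genericPoints_iff.2
    fun z hz => (hz.antisymm (genericPoint_specializes z)).eq)
  refine hf (eq_zero_of_generic f fun w => ?_)
  have hu : IsUnit (e v) := (IsUnit.mk0 (G₀ := X.functionField) (e v) fun h => hne (e.map_eq_zero_iff.1 h))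
  obtain ⟨b, hb⟩ := hu.exists_left_inv
  have hw : w = (e w * b) • v := e.injective (by rw [map_smul, smul_eq_mul, mul_assoc, hb, mul_one])
  rw [hw, map_smul, hv, smul_zero]

theorem isTorsionFree_of_mono {N : X.Modules} (ι : N ⟶ Coh.structureModule X) [Mono ι] :
    TorSh.IsTorsionFree N := fun x => by
  obtain ⟨D, e, hx, he⟩ := FinCov.exists_frame_nhd_of_rank
    (Euler.isFinLocFreeOfRank_one' (Euler.isInvertible_structure (X := X))) x
  obtain ⟨b⟩ := Euler.stalk_basis_of_frame he hx
  haveI : Module.Free (X.presheaf.stalk x) ((Coh.structureModule X).presheaf.stalk x) := Module.Free.of_basis b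
  exact Function.Injective.moduleIsTorsionFree (stalkLin ι x) (QCoh.stalkLin_injective _ x) (map_smul _)

theorem finrank_generic_of_mono {N : X.Modules} (ι : N ⟶ Coh.structureModule X) [Mono ι] (hN : ¬ IsZero N) :
    Module.finrank (X.presheaf.stalk (genericPoint X)) (N.presheaf.stalk (genericPoint X)) = 1 := by
  obtain ⟨D, e, hx, he⟩ := FinCov.exists_frame_nhd_of_rank
    (Euler.isFinLocFreeOfRank_one' (Euler.isInvertible_structure (X := X))) (genericPoint X)
  obtain ⟨b⟩ := Euler.stalk_basis_of_frame he hx
  haveI : Module.Finite X.functionField ((Coh.structureModule X).presheaf.stalk (genericPoint X)) := Module.Finite.of_basis b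
  have h1 : Module.finrank X.functionField ((Coh.structureModule X).presheaf.stalk (genericPoint X)) = 1 :=
    (Module.finrank_eq_card_basis b).trans (Fintype.card_fin 1)
  let l : N.presheaf.stalk (genericPoint X) →ₗ[X.functionField]
      (Coh.structureModule X).presheaf.stalk (genericPoint X) := stalkLin ι (genericPoint X)
  have hinj : Function.Injective l := QCoh.stalkLin_injective _ _
  haveI := FiniteDimensional.of_injective l hinj
  refine le_antisymm ((LinearMap.finrank_le_finrank_of_injective hinj).trans h1.le) ?_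
  haveI : Nontrivial (N.presheaf.stalk (genericPoint X)) := by
    refine not_subsingleton_iff_nontrivial.1 fun hs => hN ?_
    rw [IsZero.iff_id_eq_zero]
    exact eq_zero_of_generic' (genDet_of_mono ι) _ fun v => Subsingleton.elim _ _
  exact Module.finrank_pos (R := X.functionField)

theorem exists_hilb (K : Type u) [Field K] [X.Over (Spec (CommRingCat.of K))]
    [IsProper (X ↘ Spec (CommRingCat.of K))] {L F : X.Modules} (hL : PicF.IsInvertible L) (hF : Coh.IsCoh F) :
    ∃ P : Polynomial ℚ, ShStab.IsHilbPoly K X L F P := by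
  obtain ⟨D, hD, -⟩ := Dim.exists_nat_dim_open (K := K) (X ↘ Spec (CommRingCat.of K))
  have hd : Snapper.DimLT (CohB1.support F) (D + 1) :=
    Snapper.dimLT_of_dim_le
      (le_trans (Topology.IsInducing.topologicalKrullDim_le (f := Subtype.val) Topology.IsInducing.subtypeVal) hD.le)
  obtain ⟨P, hP, -⟩ := Hilb20.exists_isHilbPoly_of_dimLT (k := K) hL hF hd
  exact ⟨P, hP⟩

end GrothLib.NonPure12
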