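import Groth.Agent.Lib.Hilb20.Poly
import Groth.Agent.Lib.CMReg.HilbDegree
import Groth.Agent.Lib.TFSimple15.Quot
import Groth.Agent.Lib.Cube.Pic
import Groth.Agent.Lib.Dim.Scheme

/-!
The subleading coefficient of the Hilbert polynomial of an invertible module when the Picard group is cyclic.
-/

set_option autoImplicit false
set_option linter.style.haveILetI false
set_option linter.unusedSectionVars false
set_option backward.isDefEq.respectTransparency false

universe u

open CategoryTheory CategoryTheory.Limits AlgebraicGeometry TopologicalSpace Polynomial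
open GrothLib.Euler (tF)
open GrothLib.Snapper (invPows phi polyLT mono)
open GrothLib.Cube (clsMod)

noncomputable section

namespace GrothLib.NonPure12

/-- Polynomial functions of two variables: the top coefficient does not depend on the second variable and the next
one is affine in it. -/
theorem exists_slices {n : ℕ} (hn : 1 ≤ n) {f : (Fin 2 → ℕ) → ℚ} (hf : f ∈ polyLT 2 (n + 1)) :
    ∃ a b c : ℚ, ∀ j : ℕ, ∃ P : ℚ[X], P.natDegree ≤ n ∧ (∀ t : ℕ, f ![t, j] = P.eval (t : ℚ)) ∧
      P.coeff n = a ∧ P.coeff (n - 1) = b + c * j := by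
  induction hf using Submodule.span_induction with
  | mem g hg =>
    obtain ⟨e, he, rfl⟩ := hg
    have he' : e 0 + e 1 ≤ n := by simpa [Fin.sum_univ_two, Nat.lt_succ_iff] using he
    refine ⟨if e 0 = n then 1 else 0, if e 0 = n - 1 ∧ e 1 = 0 then 1 else 0,
      if e 0 = n - 1 ∧ e 1 = 1 then 1 else 0, fun j => ⟨C ((j : ℚ) ^ e 1) * X ^ e 0, ?_, ?_, ?_, ?_⟩⟩
    · exact (natDegree_C_mul_X_pow_le _ _).trans (by omega)
    · intro t; simp [mono, Fin.prod_univ_two, mul_comm]
    · rw [coeff_C_mul, coeff_X_pow]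
      by_cases h : e 0 = n
      · have : e 1 = 0 := by omega
        simp [h, this]
      · simp [h, Ne.symm h]
    · rw [coeff_C_mul, coeff_X_pow]
      by_cases h : e 0 = n - 1
      · have : e 1 = 0 ∨ e 1 = 1 := by omega
        rcases this with h1 | h1 <;> simp [h, h1]
      · simp [h, Ne.symm h]
  | zero => exact ⟨0, 0, 0, fun j => ⟨0, by simp, by simp, by simp, by simp⟩⟩
  | add f g _ _ hf hg =>
    obtain ⟨a, b, c, h⟩ := hf
    obtain ⟨a', b', c', h'⟩ := hg
    refine ⟨a + a', b + b', c + c', fun j => ?_⟩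
    obtain ⟨P, h1, h2, h3, h4⟩ := h j
    obtain ⟨Q, k1, k2, k3, k4⟩ := h' j
    exact ⟨P + Q, (natDegree_add_le _ _).trans (max_le h1 k1), fun t => by simp [h2, k2],
      by rw [coeff_add, h3, k3], by rw [coeff_add, h4, k4]; ring⟩
  | smul r f _ hf =>
    obtain ⟨a, b, c, h⟩ := hf
    refine ⟨r * a, r * b, r * c, fun j => ?_⟩
    obtain ⟨P, h1, h2, h3, h4⟩ := h j
    exact ⟨r • P, (natDegree_smul_le _ _).trans h1, fun t => by simp [h2],
      by rw [coeff_smul, h3, smul_eq_mul], by rw [coeff_smul, h4, smul_eq_mul]; ring⟩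

theorem coeff_pred_comp_X_add_C {n : ℕ} (hn : 1 ≤ n) {P : ℚ[X]} (hP : P.natDegree ≤ n) (B : ℚ) :
    (P.comp (X + C B)).coeff (n - 1) = P.coeff (n - 1) + n * B * P.coeff n := by
  obtain ⟨m, rfl⟩ : ∃ m, n = m + 1 := ⟨n - 1, by omega⟩
  simp only [Nat.add_sub_cancel]
  conv_lhs => rw [P.as_sum_range_C_mul_X_pow' (Nat.lt_succ_of_le hP)]
  rw [Finset.sum_range_succ, Finset.sum_range_succ, add_comp, add_comp, sum_comp, coeff_add, coeff_add,
    finsetSum_coeff, Finset.sum_eq_zero (fun i hi => ?_), zero_add]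
  · simp only [mul_comp, C_comp, pow_comp, X_comp, coeff_C_mul, coeff_X_add_C_pow]
    rw [Nat.sub_self, pow_zero, Nat.choose_self, Nat.add_sub_cancel_left, pow_one, Nat.choose_succ_self_right]
    push_cast
    ring
  · simp only [mul_comp, C_comp, pow_comp, X_comp, coeff_C_mul, coeff_X_add_C_pow]
    rw [Nat.choose_eq_zero_of_lt (Finset.mem_range.1 hi), Nat.cast_zero, mul_zero, mul_zero]

variable (K : Type u) [Field K] {Y : Scheme.{u}} [Y.Over (Spec (CommRingCat.of K))]
  [IsProper (Y ↘ Spec (CommRingCat.of K))] [IsIntegral Y]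

attribute [local irreducible] Curv2.euler

theorem phi_two_eq (L M : Y.Modules) (t j : ℕ) :
    phi K 2 ![L, M] (Coh.structureModule Y) ![t, j] =
      phi K 1 (fun _ => L) (CohB1.tensorPow M j) (fun _ => t) := by
  have hB : invPows 1 (fun i => ![L, M] (Fin.castSucc i)) (fun i => ![t, j] (Fin.castSucc i)) =
      invPows 1 (fun _ => L) (fun _ => t) := by
    congr 1 <;> funext i <;> fin_cases i <;> rfl
  let B := invPows 1 (fun _ : Fin 1 => L) (fun _ => t)
  let P := CohB1.tensorPow M j
  have hA : invPows 2 ![L, M] ![t, j] = (tF P).obj B := by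
    show (tF (CohB1.tensorPow M j)).obj (invPows 1 (fun i => ![L, M] (Fin.castSucc i))
      (fun i => ![t, j] (Fin.castSucc i))) = _
    rw [hB]
  rw [phi, phi, hA]
  refine congrArg Int.cast (Euler.euler_of_iso K ?_)
  exact ((OX.tensorBraiding (X := Y)).app ((tF P).obj B)).app (Coh.structureModule Y) ≪≫
    Euler.tFUnitIso ((tF P).obj B) ≪≫ ((OX.tensorBraiding (X := Y)).app P).app B

theorem euler_twist_of_cls {L : Y.Modules} (hL : PicF.IsInvertible L) {E E' : Y.Modules}
    (hE : PicF.IsInvertible E) (hE' : PicF.IsInvertible E') (t t' : ℕ)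
    (h : clsMod hE * clsMod hL ^ t = clsMod hE' * clsMod hL ^ t') :
    (Curv2.euler K Y (ShStab.twist Y L E t) : ℚ) = (Curv2.euler K Y (ShStab.twist Y L E' t') : ℚ) := by
  obtain ⟨e⟩ := (Cube.clsMod_eq_iff (Ample.isInvertible_tensorMod hE (Ample.isInvertible_tensorPow hL t))
    (Ample.isInvertible_tensorMod hE' (Ample.isInvertible_tensorPow hL t'))).1 (by
      rw [Cube.clsMod_tensorMod hE (Ample.isInvertible_tensorPow hL t),
        Cube.clsMod_tensorMod hE' (Ample.isInvertible_tensorPow hL t'), Cube.clsMod_tensorPow hL t,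
        Cube.clsMod_tensorPow hL t']
      exact h)
  exact congrArg Int.cast (Euler.euler_of_iso K e)

theorem clsMod_structure : clsMod (Euler.isInvertible_structure (X := Y)) = 1 :=
  (Cube.clsMod_eq_one_iff _).2 ⟨Iso.refl _⟩

set_option maxHeartbeats 1000000 in
/-- With cyclic Picard group the next-to-top coefficient is linear in the class. -/
theorem coeff_pred_eq {n : ℕ} (hn : 1 ≤ n) (hdim : topologicalKrullDim Y = (n : WithBot ℕ∞))
    (θ : Cube.Pic Y ≃* Multiplicative ℤ) {L : Y.Modules} (hLa : CohB1.IsAmple L) {PO : ℚ[X]}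
    (hPO : ShStab.IsHilbPoly K Y L (Coh.structureModule Y) PO) :
    Multiplicative.toAdd (θ (clsMod hLa.1)) ≠ 0 ∧ PO.coeff n ≠ 0 ∧
    ∀ (M : Y.Modules) (hM : PicF.IsInvertible M) (PM : ℚ[X]), ShStab.IsHilbPoly K Y L M PM →
      (PM.coeff (n - 1) - PO.coeff (n - 1)) * ((Multiplicative.toAdd (θ (clsMod hLa.1)) : ℤ) : ℚ) =
        n * PO.coeff n * ((Multiplicative.toAdd (θ (clsMod hM)) : ℤ) : ℚ) := by
  haveI := Euler.isNoetherian_of_proper (X := Y) K
  have hLi := hLa.1
  set a := Multiplicative.toAdd (θ (clsMod hLi)) with ha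
  have hO := HomSh.isCoh_structureModule Y
  have hsupp : CohB1.support (Coh.structureModule Y) = Set.univ := TFSimple15.support_structureModule
  have hd : Snapper.DimLT (CohB1.support (Coh.structureModule Y)) (n + 1) :=
    Snapper.dimLT_of_dim_le
      (le_trans (Topology.IsInducing.topologicalKrullDim_le (f := Subtype.val) Topology.IsInducing.subtypeVal) hdim.le)
  have hdeg : PO.natDegree = n := by
    have h := CMReg.supportDim_eq_natDegree_of_phi K hLa hLi hO (hsupp ▸ Set.univ_nonempty) ⟨_, hd⟩ PO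
      (fun m => (Hilb20.euler_twist K L _ m).symm.trans (hPO m))
    rw [hsupp, IsHomeomorph.topologicalKrullDim_eq _ (Homeomorph.Set.univ Y).isHomeomorph, hdim] at h
    exact_mod_cast h.symm
  have hlead : PO.coeff n ≠ 0 := by
    rw [← hdeg, coeff_natDegree, leadingCoeff_ne_zero]
    intro h
    rw [h, natDegree_zero] at hdeg
    omega
  have ha0 : a ≠ 0 := by
    intro h0
    have h1 : clsMod hLi = 1 := θ.injective (by rw [map_one]; exact Multiplicative.toAdd.injective h0)
    obtain ⟨e⟩ := (Cube.clsMod_eq_one_iff hLi).1 h1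
    have hPc : PO = C (PO.eval (0 : ℚ)) := Hilb20.eq_of_forall_nat_eval fun m => by
      rw [eval_C, ← Nat.cast_zero, ← hPO 0, ← hPO m]
      exact euler_twist_of_cls K hLi Euler.isInvertible_structure Euler.isInvertible_structure m 0
        (by rw [h1, one_pow, one_pow])
    rw [hPc, natDegree_C] at hdeg
    omega
  refine ⟨ha0, hlead, fun M hM PM hPM => ?_⟩
  set m := Multiplicative.toAdd (θ (clsMod hM)) with hm
  obtain ⟨α, β, γ, hsl⟩ := exists_slices hn (Snapper.phi_mem_polyLT K
    (r := 2) (L := ![L, M]) (fun i => by fin_cases i <;> assumption) (n + 1) _ hO hd)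
  choose P hPdeg hPev hPn hPn1 using hsl
  have hPj : ∀ j, ShStab.IsHilbPoly K Y L (CohB1.tensorPow M j) (P j) := fun j t => by
    rw [Hilb20.euler_twist, ← phi_two_eq, hPev]
  have h0 : ShStab.IsHilbPoly K Y L (Coh.structureModule Y) (P 0) := fun t =>
    (euler_twist_of_cls K hLi Euler.isInvertible_structure (Ample.isInvertible_tensorPow hM 0) t t
      (by rw [clsMod_structure])).trans (hPj 0 t)
  have h1 : ShStab.IsHilbPoly K Y L M (P 1) := fun t =>
    (euler_twist_of_cls K hLi hM (Ample.isInvertible_tensorPow hM 1) t t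
      (by rw [Cube.clsMod_tensorPow hM 1, pow_one])).trans (hPj 1 t)
  rw [← Hilb20.isHilbPoly_unique h0 hPO] at hlead ⊢
  rw [← Hilb20.isHilbPoly_unique h1 hPM]
  -- transfer along a relation between classes
  have key : ∀ (A : ℕ) (B B' : ℕ), clsMod hM ^ A * clsMod hLi ^ B = clsMod hLi ^ B' →
      (P A).comp (X + C (B : ℚ)) = (P 0).comp (X + C (B' : ℚ)) := by
    intro A B B' hrel
    refine Hilb20.eq_of_forall_nat_eval fun t => ?_
    simp only [eval_comp, eval_add, eval_X, eval_C]
    rw [← Nat.cast_add, ← Nat.cast_add, ← hPj A, ← hPj 0]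
    exact euler_twist_of_cls K hLi (Ample.isInvertible_tensorPow hM A) (Ample.isInvertible_tensorPow hM 0)
      (t + B) (t + B') (by
      rw [Cube.clsMod_tensorPow hM A, Cube.clsMod_tensorPow hM 0, pow_zero, one_mul, pow_add, pow_add,
        mul_left_comm, hrel])
  have hθ : ∀ (x y : Cube.Pic Y), Multiplicative.toAdd (θ x) = Multiplicative.toAdd (θ y) → x = y :=
    fun x y h => θ.injective (Multiplicative.toAdd.injective h)
  rw [hPn1 0, hPn1 1]
  rw [Nat.cast_zero, mul_zero, add_zero, Nat.cast_one, mul_one, add_sub_cancel_left, hPn 0]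
  rw [hPn 0] at hlead
  have hco : ∀ (A B B' : ℕ), clsMod hM ^ A * clsMod hLi ^ B = clsMod hLi ^ B' →
      γ * A + n * B * α = n * B' * α := by
    intro A B B' hrel
    have h := congrArg (fun q => q.coeff (n - 1)) (key A B B' hrel)
    simp only [coeff_pred_comp_X_add_C hn (hPdeg _), hPn1, hPn, Nat.cast_zero, mul_zero, add_zero] at h
    linarith
  have habs : ((a.natAbs : ℕ) : ℤ) = |a| := (Int.abs_eq_natAbs a).symm
  have habsm : ((m.natAbs : ℕ) : ℤ) = |m| := (Int.abs_eq_natAbs m).symm
  by_cases hs : 0 ≤ m * a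
  · have := hco a.natAbs 0 m.natAbs (hθ _ _ (by
      simp only [map_mul, map_pow, toAdd_mul, toAdd_pow, ← hm, ← ha, nsmul_eq_mul, habs, habsm,
        Nat.cast_zero, zero_mul, add_zero]
      rcases le_total 0 a with h | h
      · rw [abs_of_nonneg h, abs_of_nonneg (show 0 ≤ m by nlinarith [lt_of_le_of_ne h (Ne.symm ha0)])]; ring
      · rw [abs_of_nonpos h, abs_of_nonpos (show m ≤ 0 by nlinarith [lt_of_le_of_ne h ha0])]; ring))
    simp only [Nat.cast_zero, mul_zero, zero_mul, add_zero] at this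
    have hA : ((a.natAbs : ℕ) : ℚ) = |(a : ℚ)| := by rw [Nat.cast_natAbs, Int.cast_abs]
    have hB : ((m.natAbs : ℕ) : ℚ) = |(m : ℚ)| := by rw [Nat.cast_natAbs, Int.cast_abs]
    rw [hA, hB] at this
    rcases le_total 0 a with h | h
    · have hm0 : 0 ≤ m := by nlinarith [lt_of_le_of_ne h (Ne.symm ha0)]
      rw [abs_of_nonneg (show (0 : ℚ) ≤ a by exact_mod_cast h),
        abs_of_nonneg (show (0 : ℚ) ≤ m by exact_mod_cast hm0)] at this
      linarith
    · have hm0 : m ≤ 0 := by nlinarith [lt_of_le_of_ne h ha0]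
      rw [abs_of_nonpos (show (a : ℚ) ≤ 0 by exact_mod_cast h),
        abs_of_nonpos (show (m : ℚ) ≤ 0 by exact_mod_cast hm0)] at this
      linarith
  · push Not at hs
    have := hco a.natAbs m.natAbs 0 (hθ _ _ (by
      simp only [map_mul, map_pow, toAdd_mul, toAdd_pow, ← hm, ← ha, nsmul_eq_mul, habs, habsm,
        Nat.cast_zero, zero_mul]
      rcases le_total 0 a with h | h
      · rw [abs_of_nonneg h, abs_of_nonpos (show m ≤ 0 by nlinarith [lt_of_le_of_ne h (Ne.symm ha0)])]; ring
      · rw [abs_of_nonpos h, abs_of_nonneg (show 0 ≤ m by nlinarith [lt_of_le_of_ne h ha0])]; ring))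
    simp only [Nat.cast_zero, mul_zero, zero_mul] at this
    have hA : ((a.natAbs : ℕ) : ℚ) = |(a : ℚ)| := by rw [Nat.cast_natAbs, Int.cast_abs]
    have hB : ((m.natAbs : ℕ) : ℚ) = |(m : ℚ)| := by rw [Nat.cast_natAbs, Int.cast_abs]
    rw [hA, hB] at this
    rcases le_total 0 a with h | h
    · have hm0 : m ≤ 0 := by nlinarith [lt_of_le_of_ne h (Ne.symm ha0)]
      rw [abs_of_nonneg (show (0 : ℚ) ≤ a by exact_mod_cast h),
        abs_of_nonpos (show (m : ℚ) ≤ 0 by exact_mod_cast hm0)] at this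
      linarith
    · have hm0 : 0 ≤ m := by nlinarith [lt_of_le_of_ne h ha0]
      rw [abs_of_nonpos (show (a : ℚ) ≤ 0 by exact_mod_cast h),
        abs_of_nonneg (show (0 : ℚ) ≤ m by exact_mod_cast hm0)] at this
      linarith

end GrothLib.NonPure12
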