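import Groth.Agent.Lib.NonPure12.Points
import Groth.Agent.Lib.NonPure12.PolyTwo
import Groth.Agent.Lib.K3Ext28.Saturate
import Groth.Agent.Lib.IdealMV12.Basic
import Groth.Agent.Lib.PicH1.Pic
import Groth.Agent.Lib.PointIdeal16.Main

/-!
Rank one torsion-free sheaves with the Hilbert polynomial of an ideal of points, for cyclic Picard group.
-/

set_option autoImplicit false
set_option linter.style.haveILetI false
set_option linter.unusedSectionVars false
set_option backward.isDefEq.respectTransparency false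
set_option maxHeartbeats 800000

universe u

open CategoryTheory CategoryTheory.Limits AlgebraicGeometry TopologicalSpace Polynomial
open GrothLib.Snapper (DimLT)
open GrothLib.Cube (clsMod)
open GrothLib.Ref1 (Gen)

noncomputable section

namespace GrothLib.NonPure12

attribute [local irreducible] Curv2.euler

variable (K : Type u) [Field K] {Y : Scheme.{u}} [Y.Over (Spec (CommRingCat.of K))]
  [IsProper (Y ↘ Spec (CommRingCat.of K))] [IsIntegral Y] [Smooth (Y ↘ Spec (CommRingCat.of K))]

include K in
/-- The bidual of a rank one torsion-free module: invertible, and the cokernel has codimension two. -/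
theorem bidual_facts_general {n : ℕ} (hdim : topologicalKrullDim Y = (n : WithBot ℕ∞))
    {N : Y.Modules} (hNc : Coh.IsCoh N) (htf : TorSh.IsTorsionFree N)
    {e : N.presheaf.stalk (genericPoint Y)} (he : Gen N (genericPoint Y) e) :
    PicF.IsInvertible (RefHull.ddual N) ∧ Mono (RefHull.bidualMap N) ∧
      DimLT (CohB1.support (cokernel (RefHull.bidualMap N))) (n - 1) := by
  haveI := Euler.isNoetherian_of_proper (X := Y) K
  haveI := hNc.1
  haveI : ∀ x : Y, Module.IsTorsionFree (Y.presheaf.stalk x) (N.presheaf.stalk x) := htf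
  have hN := Hilb20.isNormalScheme_of_smooth (X := Y) K
  have hrel := HomSh.hasRel_of_isCoh hNc
  have hR := Ref1.isRef1_ddual hrel he
  have hinv : PicF.IsInvertible (RefHull.ddual N) := FacDiv.isInvertible_of_ufd hN hR fun x => by
    haveI : IsDomain (Y.presheaf.stalk x) := (hN x).1
    haveI := WeilExt.isRegularLocalRing_stalk_of_smooth (Y ↘ Spec (CommRingCat.of K))
      (WeilExt.isRegularLocalRing_stalk_spec K) x
    exact RegUFD.ufd_of_isRegularLocalRing _
  have hm : Mono (RefHull.bidualMap N) :=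
    (OX.mono_iff _).2 fun x => (ModuleCat.mono_iff_injective _).2 (Ref1.stalkMap_bidual_injective hrel x)
  have hb : ∀ x : Y, ¬ (2 : WithBot ℕ∞) ≤ ringKrullDim (Y.presheaf.stalk x) →
      Function.Bijective (RefHull.stalkMapₗ (RefHull.bidualMap N) x) := by
    intro x hlt
    have h1 : ringKrullDim (Y.presheaf.stalk x) ≤ 1 := by_contra fun h => hlt (Ref1.two_le_of_not_le_one h)
    by_cases h0 : x = genericPoint Y
    · subst h0
      exact (HomSh.bijective_bidual_iff hrel _).2 (FacDiv.isReflexiveAt_of_gen he)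
    · haveI := hrel.span_stalk x
      haveI : IsDomain (Y.presheaf.stalk x) := (hN x).1
      haveI := Ref1.isDiscreteValuationRing_of_dim_one hN (DecSh20.dim_eq_one_of_le_one h1 h0)
      obtain ⟨t, ht⟩ := Ref1.exists_gen_of_pid (Ref1.sp_injective N x) he
      exact (HomSh.bijective_bidual_iff hrel _).2 (FacDiv.isReflexiveAt_of_gen ht)
  refine ⟨hinv, hm, fun l hl => ?_⟩
  have h2 : (2 : WithBot ℕ∞) ≤ ringKrullDim (Y.presheaf.stalk (l (Fin.last _))) := by
    by_contra hlt
    exact QCoh.notMem_support_cokernel_of_surjective _ (hb _ hlt).2 (hl _)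
  rw [ringKrullDim_stalk_eq_coheight] at h2
  obtain ⟨p, hp, hlen⟩ := Order.exists_series_of_le_coheight (n := 2) _ (WithBot.coe_le_coe.1 h2)
  have := Kleiman.dimLT_univ hdim.le (l.smash p hp.symm) fun i => Set.mem_univ _
  rw [RelSeries.smash_length, hlen] at this
  omega

theorem exists_gen_of_finrank {N : Y.Modules}
    (h : Module.finrank (Y.presheaf.stalk (genericPoint Y)) (N.presheaf.stalk (genericPoint Y)) = 1) :
    ∃ e, Gen N (genericPoint Y) e := by
  letI : Field (Y.presheaf.stalk (genericPoint Y)) := CurvePoints.isField_stalk_genericPoint.toField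
  obtain ⟨e, he, hspan⟩ := finrank_eq_one_iff'.1 h
  exact ⟨e, fun a b hab => smul_left_injective _ he hab, fun w => hspan w⟩

/-- Coefficients of degree `≥ n - 1` are those of the bidual. -/
theorem coeff_bidual {n : ℕ} (hdim : topologicalKrullDim Y = (n : WithBot ℕ∞)) {L : Y.Modules}
    (hL : PicF.IsInvertible L) {N : Y.Modules} (hNc : Coh.IsCoh N)
    (hM : PicF.IsInvertible (RefHull.ddual N)) [Mono (RefHull.bidualMap N)]
    (hd : DimLT (CohB1.support (cokernel (RefHull.bidualMap N))) (n - 1))
    {P : ℚ[X]} (hP : ShStab.IsHilbPoly K Y L N P) :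
    ∃ PM, ShStab.IsHilbPoly K Y L (RefHull.ddual N) PM ∧ PM.coeff (n - 1) = P.coeff (n - 1) := by
  haveI := Euler.isNoetherian_of_proper (X := Y) K
  have hMc := Euler.isCoh_of_isInvertible hM
  have hC := QCoh.isCoh_cokernel (RefHull.bidualMap N) hNc hMc
  obtain ⟨Q, hQ, hdeg⟩ := Hilb20.exists_isHilbPoly_of_dimLT (k := K) hL hC hd
  refine ⟨P + Q, Hilb20.isHilbPoly_add hL (S := ShortComplex.mk (RefHull.bidualMap N) _ (cokernel.condition _))
    { exact := ShortComplex.exact_cokernel _ } hNc hMc hC hP hQ, ?_⟩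
  rw [coeff_add, coeff_eq_zero_of_degree_lt hdeg, add_zero]

/-- Powers of an invertible ideal. -/
theorem exists_tensorPow_idealMod [IsLocallyNoetherian Y] {I : Y.IdealSheafData}
    (hI : PicF.IsInvertible (ClSub.idealMod I)) (j : ℕ) :
    ∃ Z : Y.IdealSheafData, Nonempty (CohB1.tensorPow (ClSub.idealMod I) j ≅ ClSub.idealMod Z) := by
  haveI := HodgeIndex.isIso_idealModι_top (X := Y)
  induction j with
  | zero => exact ⟨⊤, ⟨(asIso (ClSub.idealModι ⊤)).symm⟩⟩
  | succ j ih =>
    obtain ⟨Z, ⟨e⟩⟩ := ih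
    obtain ⟨e'⟩ := IdealMV12.nonempty_idealMod_mul_invertible (I := Z) hI
    exact ⟨Z * I, ⟨(Euler.tF (ClSub.idealMod I)).mapIso e ≪≫ e'⟩⟩

end GrothLib.NonPure12
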